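import Groth.Agent.Lib.AdicSmooth.Basic
import Mathlib.RingTheory.Artinian.Module
import Mathlib.RingTheory.LocalRing.ResidueField.Basic
import Mathlib.LinearAlgebra.Basis.VectorSpace
import Mathlib.RingTheory.Ideal.Quotient.Basic

/-!
Formal smoothness can be tested on Artinian local rings with the same residue field.
-/

set_option autoImplicit false
set_option linter.style.haveILetI false

universe u

open IsLocalRing

namespace Groth.Agent.AdicSmooth3

variable (A B : Type u) [CommRing A] [IsLocalRing A] [CommRing B] [IsLocalRing B] [Algebra A B]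

/-- The lifting property for Artinian local algebras with the residue field of `B`. -/
def ArtinLift : Prop :=
  ∀ (C : Type u) [CommRing C] [IsLocalRing C] [IsArtinianRing C] [Algebra A C] [IsLocalHom (algebraMap A C)]
    (J : Ideal C), IsNilpotent J → ∀ [IsLocalRing (C ⧸ J)] (u : B →ₐ[A] C ⧸ J) [IsLocalHom u.toRingHom],
    Function.Bijective (ResidueField.map u.toRingHom) →
    ∃ f : B →ₐ[A] C, IsLocalHom f.toRingHom ∧ (Ideal.Quotient.mkₐ A J).comp f = u

variable {A B}

theorem exists_lift_simple [IsLocalHom (algebraMap A B)] (h : ArtinLift A B) {k : ℕ} (hk : k ≠ 0)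
    [IsArtinianRing (B ⧸ maximalIdeal B ^ k)] {E : Type u} [CommRing E] [Algebra A E]
    (π : E →ₐ[A] B ⧸ maximalIdeal B ^ k) (hπ : Function.Surjective π)
    (hsimple : ∀ N : Submodule E E, N ≤ (RingHom.ker π : Ideal E) → N = ⊥ ∨ N = (RingHom.ker π : Ideal E))
    (hsq : (RingHom.ker π : Ideal E) ^ 2 = ⊥) :
    ∃ v : B →ₐ[A] E, π.comp v = Ideal.Quotient.mkₐ A _ := by
  have hne : maximalIdeal B ^ k ≠ ⊤ := fun e =>
    (maximalIdeal.isMaximal B).ne_top (top_le_iff.mp (e ▸ Ideal.pow_le_self hk))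
  haveI : Nontrivial (B ⧸ maximalIdeal B ^ k) := Ideal.Quotient.nontrivial_iff.mpr hne
  haveI : IsLocalRing (B ⧸ maximalIdeal B ^ k) := IsLocalRing.of_surjective' _ Ideal.Quotient.mk_surjective
  haveI hπl : IsLocalHom π.toRingHom := ⟨fun x hx => by
    obtain ⟨y, hy⟩ := hx.exists_right_inv
    obtain ⟨y, rfl⟩ := hπ y
    have h1 : (x * y - 1) ∈ RingHom.ker π := by
      change π x * π y = 1 at hy
      rw [RingHom.mem_ker, map_sub, map_mul, map_one, hy, sub_self]
    have h2 : IsNilpotent (x * y - 1) := ⟨2, by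
      rw [← Ideal.mem_bot, ← hsq]; exact Ideal.pow_mem_pow h1 2⟩
    have := h2.isUnit_add_one
    rw [sub_add_cancel] at this
    exact isUnit_of_mul_isUnit_left this⟩
  haveI : Nontrivial E := π.toRingHom.domain_nontrivial
  haveI : IsLocalRing E := π.toRingHom.domain_isLocalRing
  haveI : IsArtinianRing E := by
    let I : Submodule E E := (RingHom.ker π : Ideal E)
    haveI : IsArtinian E I := by
      classical
      haveI : Finite (Submodule E I) := by
        refine Finite.of_injective (fun M : Submodule E I => decide (M = ⊥)) fun M M' hMM => ?_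
        have htri : ∀ M : Submodule E I, M = ⊥ ∨ M = ⊤ := fun M => by
          rcases hsimple (M.map I.subtype) (Submodule.map_subtype_le I M) with h | h
          · exact Or.inl (Submodule.map_injective_of_injective I.injective_subtype (h.trans (Submodule.map_bot _).symm))
          · exact Or.inr (Submodule.map_injective_of_injective I.injective_subtype (h.trans (Submodule.map_subtype_top I).symm))
        simp only [decide_eq_decide] at hMM
        rcases htri M with h | h <;> rcases htri M' with h' | h'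
        · rw [h, h']
        · rw [h, hMM.mp h]
        · rw [hMM.mpr h', h']
        · rw [h, h']
      exact inferInstance
    letI : Algebra E (B ⧸ maximalIdeal B ^ k) := π.toRingHom.toAlgebra
    haveI : IsArtinian E (B ⧸ maximalIdeal B ^ k) :=
      isArtinian_of_surjective_algebraMap (R := B ⧸ maximalIdeal B ^ k) hπ
    exact isArtinian_of_range_eq_ker I.subtype (Algebra.linearMap E (B ⧸ maximalIdeal B ^ k))
      (by rw [Submodule.range_subtype]; ext x; simp [I, Algebra.linearMap_apply, RingHom.algebraMap_toAlgebra])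
  haveI : IsLocalHom (algebraMap A E) := ⟨fun a ha => by
    have h1 := ha.map π
    rw [AlgHom.commutes, IsScalarTower.algebraMap_apply A B (B ⧸ maximalIdeal B ^ k), Ideal.Quotient.algebraMap_eq] at h1
    haveI : IsLocalHom (Ideal.Quotient.mk (maximalIdeal B ^ k)) := IsLocalHom.of_surjective _ Ideal.Quotient.mk_surjective
    exact isUnit_of_map_unit (algebraMap A B) a (isUnit_of_map_unit _ _ h1)⟩
  let e : (E ⧸ RingHom.ker π) ≃ₐ[A] B ⧸ maximalIdeal B ^ k := Ideal.quotientKerAlgEquivOfSurjective hπ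
  haveI : IsLocalRing (E ⧸ RingHom.ker π) := e.toRingEquiv.symm.isLocalRing
  let u : B →ₐ[A] E ⧸ RingHom.ker π := e.symm.toAlgHom.comp (Ideal.Quotient.mkₐ A _)
  have hus : Function.Surjective u := e.symm.surjective.comp Ideal.Quotient.mk_surjective
  haveI : IsLocalHom u.toRingHom := IsLocalHom.of_surjective u.toRingHom hus
  obtain ⟨f, -, hf⟩ := h E (RingHom.ker π) ⟨2, hsq⟩ u
    ⟨(ResidueField.map u.toRingHom).injective, fun y => by
      obtain ⟨y, rfl⟩ := residue_surjective y
      obtain ⟨b, rfl⟩ := hus y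
      exact ⟨residue B b, ResidueField.map_residue u.toRingHom b⟩⟩
  refine ⟨f, AlgHom.ext fun b => ?_⟩
  have h1 : e (Ideal.Quotient.mk _ (f b)) = e (u b) := congrArg e (AlgHom.congr_fun hf b)
  rw [show e (u b) = Ideal.Quotient.mk _ b from e.apply_symm_apply _] at h1
  exact h1

theorem exists_lift_killed [IsLocalHom (algebraMap A B)] (h : ArtinLift A B) {k : ℕ} (hk : k ≠ 0)
    [IsArtinianRing (B ⧸ maximalIdeal B ^ k)] {E : Type u} [CommRing E] [Algebra A E]
    (π : E →ₐ[A] B ⧸ maximalIdeal B ^ k) (hπ : Function.Surjective π)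
    (hkill : ∀ (e : E) (b : B), b ∈ maximalIdeal B → π e = Ideal.Quotient.mk _ b →
      ∀ x ∈ RingHom.ker π, e * x = 0) :
    ∃ v : B →ₐ[A] E, π.comp v = Ideal.Quotient.mkₐ A _ := by
  classical
  let I : Ideal E := RingHom.ker π
  let P : Ideal E := ((maximalIdeal B).map (Ideal.Quotient.mk (maximalIdeal B ^ k))).comap π
  have hIP : I ≤ P := fun x hx => by
    rw [Ideal.mem_comap, show π x = 0 from hx]; exact zero_mem _
  have hPI : ∀ e ∈ P, ∀ x ∈ I, e * x = 0 := fun e he => by
    obtain ⟨b, hb, hbe⟩ := (Ideal.mem_map_iff_of_surjective _ Ideal.Quotient.mk_surjective).mp he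
    exact hkill e b hb hbe.symm
  haveI : P.IsMaximal := by
    haveI : ((maximalIdeal B).map (Ideal.Quotient.mk (maximalIdeal B ^ k))).IsMaximal := by
      refine (Ideal.map_eq_top_or_isMaximal_of_surjective _ Ideal.Quotient.mk_surjective inferInstance).resolve_left
        fun e => (maximalIdeal.isMaximal B).ne_top ?_
      have := congrArg (Ideal.comap (Ideal.Quotient.mk (maximalIdeal B ^ k))) e
      rwa [Ideal.comap_map_of_surjective _ Ideal.Quotient.mk_surjective, ← RingHom.ker_eq_comap_bot, Ideal.mk_ker,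
        sup_eq_left.mpr (Ideal.pow_le_self hk), Ideal.comap_top] at this
    exact Ideal.comap_isMaximal_of_surjective π hπ
  have htor : Module.IsTorsionBySet E I (P : Set E) := fun x a => Subtype.ext (hPI a a.2 x x.2)
  letI := htor.module
  letI := Ideal.Quotient.field P
  let β := Module.Basis.ofVectorSpace (E ⧸ P) I
  have hsmul : ∀ (a : E) (x : I), a • x = Ideal.Quotient.mk P a • x := fun a x =>
    (Module.IsTorsionBySet.mk_smul htor a x).symm
  -- retraction onto finitely supported families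
  obtain ⟨r, hr⟩ := LinearMap.exists_leftInverse_of_injective
    (Finsupp.lcoeFun (α := Module.Basis.ofVectorSpaceIndex (E ⧸ P) I) (M := E ⧸ P) (R := E ⧸ P))
    (LinearMap.ker_eq_bot.mpr DFunLike.coe_injective)
  have hr' : ∀ g : Module.Basis.ofVectorSpaceIndex (E ⧸ P) I →₀ E ⧸ P, r ⇑g = g := fun g => LinearMap.congr_fun hr g
  -- coordinate quotients
  let N : Module.Basis.ofVectorSpaceIndex (E ⧸ P) I → Ideal E := fun i =>
    { carrier := {x | ∃ hx : x ∈ I, β.repr ⟨x, hx⟩ i = 0}
      add_mem' := fun {x y} ⟨hx, ex⟩ ⟨hy, ey⟩ => ⟨add_mem hx hy, by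
        rw [show (⟨x + y, add_mem hx hy⟩ : I) = ⟨x, hx⟩ + ⟨y, hy⟩ from rfl, map_add, Finsupp.add_apply, ex, ey, add_zero]⟩
      zero_mem' := ⟨zero_mem _, by rw [show (⟨0, zero_mem I⟩ : I) = 0 from rfl, map_zero, Finsupp.zero_apply]⟩
      smul_mem' := fun a x ⟨hx, ex⟩ => ⟨I.smul_mem a hx, by
        rw [show (⟨a • x, I.smul_mem a hx⟩ : I) = a • (⟨x, hx⟩ : I) from rfl, hsmul, map_smul, Finsupp.smul_apply, ex,
          smul_zero]⟩ }
  have hNI : ∀ i, N i ≤ I := fun i x hx => hx.1
  let πi : ∀ i, E ⧸ N i →ₐ[A] B ⧸ maximalIdeal B ^ k := fun i => Ideal.Quotient.liftₐ (N i) π fun x hx => hNI i hx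
  have hlift : ∀ i, ∃ v : B →ₐ[A] E ⧸ N i, (πi i).comp v = Ideal.Quotient.mkₐ A _ := fun i => by
    have hπi : Function.Surjective (πi i) := fun y => by
      obtain ⟨x, rfl⟩ := hπ y
      exact ⟨Ideal.Quotient.mk _ x, rfl⟩
    have hkeri : ∀ y : E ⧸ N i, πi i y = 0 → ∃ x ∈ I, Ideal.Quotient.mk (N i) x = y := fun y hy => by
      obtain ⟨x, rfl⟩ := Ideal.Quotient.mk_surjective y
      exact ⟨x, hy, rfl⟩
    refine exists_lift_simple h hk (πi i) hπi (fun M hM => ?_) ?_
    · by_cases hb : M = ⊥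
      · exact Or.inl hb
      refine Or.inr (le_antisymm hM fun y hy => ?_)
      obtain ⟨z, hzM, hz0⟩ := (Submodule.ne_bot_iff M).mp hb
      obtain ⟨x, hx, rfl⟩ := hkeri z (hM hzM)
      obtain ⟨y', hy', rfl⟩ := hkeri y hy
      have hne : β.repr ⟨x, hx⟩ i ≠ 0 := fun h0 => hz0 (Ideal.Quotient.eq_zero_iff_mem.mpr ⟨hx, h0⟩)
      obtain ⟨a, ha⟩ := Ideal.Quotient.mk_surjective (β.repr ⟨y', hy'⟩ i / β.repr ⟨x, hx⟩ i)
      have hmem : Ideal.Quotient.mk (N i) a • Ideal.Quotient.mk (N i) x ∈ M := M.smul_mem _ hzM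
      have e : Ideal.Quotient.mk (N i) y' = Ideal.Quotient.mk (N i) a • Ideal.Quotient.mk (N i) x := by
        rw [smul_eq_mul, ← map_mul, Ideal.Quotient.eq]
        refine ⟨sub_mem hy' (I.mul_mem_left a hx), ?_⟩
        rw [show (⟨y' - a * x, sub_mem hy' (I.mul_mem_left a hx)⟩ : I) = ⟨y', hy'⟩ - a • ⟨x, hx⟩ from rfl, hsmul, map_sub,
          map_smul, Finsupp.sub_apply, Finsupp.smul_apply, ha, smul_eq_mul, div_mul_cancel₀ _ hne, sub_self]
      rw [e]
      exact hmem
    · rw [eq_bot_iff, pow_two, Ideal.mul_le]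
      intro y hy z hz
      obtain ⟨x, hx, rfl⟩ := hkeri y hy
      obtain ⟨x', hx', rfl⟩ := hkeri z hz
      rw [Ideal.mem_bot, ← map_mul, hPI x (hIP hx) x' hx', map_zero]
  choose v hv using hlift
  have hc : ∀ (b : B) (e : E), π e = Ideal.Quotient.mk _ b → ∀ i, ∃ c : E ⧸ P,
      ∃ x : I, Ideal.Quotient.mk (N i) (x : E) = v i b - Ideal.Quotient.mk (N i) e ∧ β.repr x i = c := fun b e he i => by
    obtain ⟨x, hx⟩ := Ideal.Quotient.mk_surjective (v i b - Ideal.Quotient.mk (N i) e)
    have h1 : π x = 0 := by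
      have := congrArg (πi i) hx
      rw [map_sub, show πi i (v i b) = Ideal.Quotient.mk _ b from AlgHom.congr_fun (hv i) b] at this
      exact this.trans (by rw [show πi i (Ideal.Quotient.mk (N i) e) = π e from rfl, he, sub_self])
    exact ⟨_, ⟨x, h1⟩, hx, rfl⟩
  have huniq : ∀ i (x y : I), Ideal.Quotient.mk (N i) (x : E) = Ideal.Quotient.mk (N i) (y : E) →
      β.repr x i = β.repr y i := fun i x y h => by
    obtain ⟨h1, h2⟩ := Ideal.Quotient.eq.mp h
    rw [show (⟨(x : E) - y, h1⟩ : I) = x - y from rfl, map_sub, Finsupp.sub_apply, sub_eq_zero] at h2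
    exact h2
  choose s hs using fun b : B => hπ (Ideal.Quotient.mk (maximalIdeal B ^ k) b)
  choose c hcc using hc
  let F : ∀ (b : B) (e : E), π e = Ideal.Quotient.mk _ b → E := fun b e he => e + ((β.repr.symm (r (c b e he)) : I) : E)
  have hind : ∀ b e e' he he', F b e he = F b e' he' := fun b e e' he he' => by
    have hj : e - e' ∈ I := by rw [RingHom.mem_ker, map_sub, he, he', sub_self]
    have key : c b e' he' = c b e he + (β.repr ⟨e - e', hj⟩ : Module.Basis.ofVectorSpaceIndex (E ⧸ P) I → E ⧸ P) := by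
      funext i
      obtain ⟨x, hx, ex⟩ := hcc b e he i
      obtain ⟨y, hy, ey⟩ := hcc b e' he' i
      rw [Pi.add_apply, ← ex, ← ey, ← Finsupp.add_apply, ← map_add]
      refine huniq i _ _ ?_
      rw [hy, Submodule.coe_add, map_add, hx, map_sub]
      ring
    simp only [F]
    rw [key, map_add, hr', map_add, LinearEquiv.symm_apply_apply, Submodule.coe_add]
    show e + _ = e' + (_ + (e - e'))
    ring
  have hFπ : ∀ b e he, π (F b e he) = Ideal.Quotient.mk _ b := fun b e he => by
    simp only [F]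
    rw [map_add, he, show π ((β.repr.symm (r (c b e he)) : I) : E) = 0 from (β.repr.symm _).2, add_zero]
  have hFadd : ∀ b b' e e' he he' he'', F (b + b') (e + e') he'' = F b e he + F b' e' he' := fun b b' e e' he he' he'' => by
    have key : c (b + b') (e + e') he'' = c b e he + c b' e' he' := by
      funext i
      obtain ⟨x, hx, ex⟩ := hcc b e he i
      obtain ⟨y, hy, ey⟩ := hcc b' e' he' i
      obtain ⟨z, hz, ez⟩ := hcc (b + b') (e + e') he'' i
      rw [Pi.add_apply, ← ex, ← ey, ← ez, ← Finsupp.add_apply, ← map_add]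
      refine huniq i _ _ ?_
      simp only [hz, Submodule.coe_add, map_add, hx, hy]
      ring
    simp only [F]
    rw [key, map_add, map_add, Submodule.coe_add]
    ring
  have hFmul : ∀ b b' e e' he he' he'', F (b * b') (e * e') he'' = F b e he * F b' e' he' := fun b b' e e' he he' he'' => by
    have key : c (b * b') (e * e') he'' = Ideal.Quotient.mk P e' • c b e he + Ideal.Quotient.mk P e • c b' e' he' := by
      funext i
      obtain ⟨x, hx, ex⟩ := hcc b e he i
      obtain ⟨y, hy, ey⟩ := hcc b' e' he' i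
      obtain ⟨z, hz, ez⟩ := hcc (b * b') (e * e') he'' i
      rw [Pi.add_apply, Pi.smul_apply, Pi.smul_apply, ← ex, ← ey, ← ez, ← Finsupp.smul_apply, ← Finsupp.smul_apply,
        ← Finsupp.add_apply, ← map_smul, ← map_smul, ← map_add, ← hsmul, ← hsmul]
      refine huniq i _ _ ?_
      have h0 : Ideal.Quotient.mk (N i) (x : E) * Ideal.Quotient.mk (N i) (y : E) = 0 := by
        rw [← map_mul, hPI _ (hIP x.2) _ y.2, map_zero]
      rw [hx, hy] at h0
      simp only [hz, Submodule.coe_add, map_add, Submodule.coe_smul, smul_eq_mul, map_mul, hx, hy]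
      linear_combination h0
    simp only [F]
    rw [key, map_add, map_smul, map_smul, map_add, map_smul, map_smul, ← hsmul, ← hsmul, Submodule.coe_add,
      Submodule.coe_smul, Submodule.coe_smul, smul_eq_mul, smul_eq_mul]
    linear_combination -(hPI _ (hIP (β.repr.symm (r (c b e he))).2) _ (β.repr.symm (r (c b' e' he'))).2)
  have hFcomm : ∀ (a : A) he, F (algebraMap A B a) (algebraMap A E a) he = algebraMap A E a := fun a he => by
    have key : c (algebraMap A B a) (algebraMap A E a) he = 0 := by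
      funext i
      obtain ⟨x, hx, ex⟩ := hcc _ _ he i
      rw [← ex, Pi.zero_apply, ← Finsupp.zero_apply (a := i) (M := E ⧸ P), ← map_zero β.repr]
      refine huniq i _ _ ?_
      rw [hx, AlgHom.commutes, IsScalarTower.algebraMap_apply A E (E ⧸ N i), Ideal.Quotient.algebraMap_eq, sub_self,
        ZeroMemClass.coe_zero, map_zero]
    simp only [F]
    rw [key, map_zero, map_zero, ZeroMemClass.coe_zero, add_zero]
  let G : B → E := fun b => F b (s b) (hs b)
  have hG : ∀ b e he, G b = F b e he := fun b e he => hind b _ e _ he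
  have hone : G 1 = 1 := by
    have h1 : π (algebraMap A E 1) = Ideal.Quotient.mk (maximalIdeal B ^ k) (algebraMap A B 1) := by
      rw [map_one, map_one, map_one, map_one]
    have := hFcomm 1 h1
    rw [← hG _ _ h1] at this
    simpa using this
  have hzero : G 0 = 0 := by
    have h1 : π (algebraMap A E 0) = Ideal.Quotient.mk (maximalIdeal B ^ k) (algebraMap A B 0) := by
      rw [map_zero, map_zero, map_zero, map_zero]
    have := hFcomm 0 h1
    rw [← hG _ _ h1] at this
    simpa using this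
  refine ⟨{ toFun := G, map_one' := hone, map_zero' := hzero, map_mul' := fun b b' => ?_, map_add' := fun b b' => ?_,
            commutes' := fun a => ?_ }, AlgHom.ext fun b => hFπ b _ _⟩
  · have h1 : π (s b * s b') = Ideal.Quotient.mk (maximalIdeal B ^ k) (b * b') := by rw [map_mul, hs, hs, map_mul]
    rw [hG _ _ h1, hFmul b b' _ _ (hs b) (hs b')]
  · have h1 : π (s b + s b') = Ideal.Quotient.mk (maximalIdeal B ^ k) (b + b') := by rw [map_add, hs, hs, map_add]
    rw [hG _ _ h1, hFadd b b' _ _ (hs b) (hs b')]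
  · have h1 : π (algebraMap A E a) = Ideal.Quotient.mk (maximalIdeal B ^ k) (algebraMap A B a) := π.commutes a
    exact (hG _ _ h1).trans (hFcomm a h1)

theorem exists_lift_step [IsLocalHom (algebraMap A B)] [IsNoetherianRing B] (h : ArtinLift A B)
    {C : Type u} [CommRing C] [Algebra A C] (J M : Ideal C) (hJM : M * J = ⊥)
    (u : B →ₐ[A] C ⧸ J) (hu : ∃ k : ℕ, ∀ x ∈ maximalIdeal B ^ k, u x = 0)
    (huM : (maximalIdeal B).map u.toRingHom ≤ M.map (Ideal.Quotient.mk J)) (hJle : J ≤ M) :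
    ∃ v : B →ₐ[A] C, (Ideal.Quotient.mkₐ A J).comp v = u := by
  obtain ⟨k₀, hk₀⟩ := hu
  let k := k₀ + 1
  haveI : Nontrivial (B ⧸ maximalIdeal B ^ k) := Ideal.Quotient.nontrivial_iff.mpr fun e =>
      (maximalIdeal.isMaximal B).ne_top (top_le_iff.mp (e ▸ Ideal.pow_le_self (Nat.succ_ne_zero k₀)))
  haveI : IsLocalRing (B ⧸ maximalIdeal B ^ k) := IsLocalRing.of_surjective' _ Ideal.Quotient.mk_surjective
  haveI : IsArtinianRing (B ⧸ maximalIdeal B ^ k) := by
    refine (isArtinianRing_iff_isNilpotent_maximalIdeal _).mpr ⟨k, ?_⟩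
    rw [← map_maximalIdeal_of_surjective _ (Ideal.Quotient.mk_surjective (I := maximalIdeal B ^ k)), ← Ideal.map_pow]
    exact Ideal.map_quotient_self _
  let ub : B ⧸ maximalIdeal B ^ k →ₐ[A] C ⧸ J := Ideal.Quotient.liftₐ _ u fun x hx =>
    hk₀ x (Ideal.pow_le_pow_right (Nat.le_succ k₀) hx)
  let S : Subalgebra A (C × (B ⧸ maximalIdeal B ^ k)) :=
    AlgHom.equalizer ((Ideal.Quotient.mkₐ A J).comp (AlgHom.fst A C _)) (ub.comp (AlgHom.snd A C _))
  let π : S →ₐ[A] B ⧸ maximalIdeal B ^ k := (AlgHom.snd A C _).comp S.val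
  have hπ : Function.Surjective π := fun y => by
    obtain ⟨c, hc⟩ := Ideal.Quotient.mk_surjective (ub y)
    exact ⟨⟨(c, y), hc⟩, rfl⟩
  obtain ⟨v, hv⟩ := exists_lift_killed h (Nat.succ_ne_zero k₀) π hπ fun e b hb he x hx => by
    have he1 : Ideal.Quotient.mk J e.1.1 = u b := (e.2 : _ = ub e.1.2).trans (congrArg ub he)
    have hx2 : x.1.2 = 0 := hx
    have hx1 : x.1.1 ∈ J := by
      rw [← Ideal.Quotient.eq_zero_iff_mem]
      have h3 : Ideal.Quotient.mk J x.1.1 = ub x.1.2 := x.2
      rw [h3, hx2, map_zero]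
    have he2 : e.1.1 ∈ M := by
      obtain ⟨m, hm, hme⟩ := (Ideal.mem_map_iff_of_surjective _ Ideal.Quotient.mk_surjective).mp
        (huM (Ideal.mem_map_of_mem u.toRingHom hb))
      have := Ideal.Quotient.eq.mp (hme.trans he1.symm)
      rw [show e.1.1 = m - (m - e.1.1) by ring]
      exact sub_mem hm (hJle this)
    refine Subtype.ext (Prod.ext ?_ ?_)
    · show e.1.1 * x.1.1 = 0
      rw [← Ideal.mem_bot, ← hJM]
      exact Ideal.mul_mem_mul he2 hx1
    · show e.1.2 * x.1.2 = 0
      rw [hx2, mul_zero]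
  refine ⟨((AlgHom.fst A C _).comp S.val).comp v, AlgHom.ext fun b => ?_⟩
  exact ((v b).2 : _ = ub (v b).1.2).trans (congrArg ub (AlgHom.congr_fun hv b))

theorem isFormallySmoothAdic_of_artinLift [IsLocalHom (algebraMap A B)] [IsNoetherianRing B] (h : ArtinLift A B) :
    EGA41.IsFormallySmoothAdic A (maximalIdeal A) B (maximalIdeal B) := by
  intro C _ _ J hJ _ u hu
  let M : Ideal C := ((maximalIdeal B).map u.toRingHom).comap (Ideal.Quotient.mk J)
  have hJM : J ≤ M := fun x hx => by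
    rw [Ideal.mem_comap, Ideal.Quotient.eq_zero_iff_mem.mpr hx]; exact zero_mem _
  obtain ⟨k, hk⟩ := hu
  obtain ⟨n, hn⟩ := hJ
  have hMn : IsNilpotent M := by
    refine ⟨k * n, ?_⟩
    have h1 : M ^ k ≤ J := by
      rw [← Ideal.mk_ker (I := J), ← Ideal.map_eq_bot_iff_le_ker, Ideal.map_pow,
        Ideal.map_comap_of_surjective _ Ideal.Quotient.mk_surjective, ← Ideal.map_pow, eq_bot_iff, Ideal.map_le_iff_le_comap]
      exact fun x hx => Ideal.mem_bot.mpr (hk x hx)
    rw [pow_mul]
    exact le_bot_iff.mp ((Ideal.pow_right_mono h1 n).trans hn.le)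
  obtain ⟨N, hN⟩ := hMn
  have step : ∀ i, ∃ w : B →ₐ[A] C ⧸ (J * M ^ i), (∀ b, Ideal.Quotient.factor (Ideal.mul_le_left : J * M ^ i ≤ J) (w b) = u b) ∧
      ∃ k, ∀ x ∈ maximalIdeal B ^ k, w x = 0 := by
    intro i
    induction i with
    | zero =>
      let e := (Ideal.quotientEquivAlgOfEq A (show J * M ^ 0 = J by rw [pow_zero, mul_one]))
      refine ⟨e.symm.toAlgHom.comp u, fun b => ?_, k, fun x hx => by simp [hk x hx]⟩
      obtain ⟨c, hc⟩ := Ideal.Quotient.mk_surjective (u b)
      show Ideal.Quotient.factor _ (e.symm (u b)) = u b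
      rw [← hc]
      rfl
    | succ i ih =>
      obtain ⟨w, hw, hwc⟩ := ih
      have hle : J * M ^ (i + 1) ≤ J * M ^ i := Ideal.mul_mono_right (Ideal.pow_le_pow_right (Nat.le_succ i))
      let q := Ideal.Quotient.mk (J * M ^ (i + 1))
      let e : ((C ⧸ J * M ^ (i + 1)) ⧸ (J * M ^ i).map q) ≃ₐ[A] C ⧸ J * M ^ i := DoubleQuot.quotQuotEquivQuotOfLEₐ A hle
      have hwM : (maximalIdeal B).map (e.symm.toAlgHom.comp w).toRingHom ≤ (M.map q).map (Ideal.Quotient.mk _) := by
        rw [Ideal.map_le_iff_le_comap]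
        intro b hb
        obtain ⟨c, hc⟩ := Ideal.Quotient.mk_surjective (w b)
        have hcM : c ∈ M := by
          show Ideal.Quotient.mk J c ∈ (maximalIdeal B).map u.toRingHom
          have := hw b
          rw [← hc, Ideal.Quotient.factor_mk] at this
          rw [this]
          exact Ideal.mem_map_of_mem u.toRingHom hb
        rw [Ideal.mem_comap, show (e.symm.toAlgHom.comp w).toRingHom b = e.symm (w b) from rfl, ← hc, show e.symm (Ideal.Quotient.mk (J * M ^ i) c) = Ideal.Quotient.mk _ (q c) from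
          e.symm_apply_eq.mpr rfl]
        exact Ideal.mem_map_of_mem _ (Ideal.mem_map_of_mem _ hcM)
      obtain ⟨kw, hkw⟩ := hwc
      have hwu : ∃ k, ∀ x ∈ maximalIdeal B ^ k, e.symm.toAlgHom.comp w x = 0 := ⟨kw, fun x hx => by simp [hkw x hx]⟩
      obtain ⟨v, hv⟩ := exists_lift_step h ((J * M ^ i).map q) (M.map q) (by
          rw [← Ideal.map_mul, Ideal.map_eq_bot_iff_le_ker, Ideal.mk_ker, mul_left_comm, ← pow_succ'])
        (e.symm.toAlgHom.comp w) hwu hwM (Ideal.map_mono ((Ideal.mul_le_left).trans hJM))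
      refine ⟨v, fun b => ?_, AdicSmooth.continuous_lift _ _ ?_ _ hwu v hv⟩
      · obtain ⟨c, hc⟩ := Ideal.Quotient.mk_surjective (v b)
        have h1 : e (Ideal.Quotient.mk _ (v b)) = e (e.symm (w b)) := congrArg e (AlgHom.congr_fun hv b)
        rw [AlgEquiv.apply_symm_apply, ← hc] at h1
        rw [← hw b, ← h1, ← hc]
        rfl
      · refine ⟨n, ?_⟩
        rw [← Ideal.map_pow, Ideal.zero_eq_bot, Ideal.map_eq_bot_iff_le_ker, Ideal.mk_ker]
        exact ((Ideal.pow_right_mono Ideal.mul_le_left n).trans hn.le).trans bot_le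
  obtain ⟨w, hw, -⟩ := step N
  have h0 : J * M ^ N = ⊥ := by rw [hN]; exact Ideal.mul_bot J
  let e : (C ⧸ J * M ^ N) ≃ₐ[A] C := (Ideal.quotientEquivAlgOfEq A h0).trans (AlgEquiv.quotientBot A C)
  refine ⟨e.toAlgHom.comp w, AlgHom.ext fun b => ?_⟩
  obtain ⟨c, hc⟩ := Ideal.Quotient.mk_surjective (w b)
  show Ideal.Quotient.mk J (e (w b)) = u b
  rw [← hw b, ← hc]
  rfl

theorem artinLift_of_isFormallySmoothAdic
    (h : EGA41.IsFormallySmoothAdic A (maximalIdeal A) B (maximalIdeal B)) : ArtinLift A B := by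
  intro C _ _ _ _ _ J hJ _ u _ _
  have hnil : ∀ (R : Type u) [CommRing R] [IsLocalRing R] [IsArtinianRing R], ∃ N, maximalIdeal R ^ N = ⊥ := fun R _ _ _ => by
    obtain ⟨N, hN⟩ := IsArtinianRing.isNilpotent_jacobson_bot (R := R)
    exact ⟨N, by rwa [jacobson_eq_maximalIdeal ⊥ bot_ne_top] at hN⟩
  haveI : IsArtinianRing (C ⧸ J) := inferInstance
  obtain ⟨N, hN⟩ := hnil C
  obtain ⟨N', hN'⟩ := hnil (C ⧸ J)
  have h1 : (maximalIdeal A ^ N).map (algebraMap A C) = ⊥ := le_bot_iff.mp (by
    rw [Ideal.map_pow, ← hN]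
    exact Ideal.pow_right_mono (((local_hom_TFAE (algebraMap A C)).out 0 2).mp ‹IsLocalHom (algebraMap A C)›) N)
  have h2 : ∀ x ∈ maximalIdeal B ^ N', u x = 0 := fun x hx => by
    have : (maximalIdeal B ^ N').map u.toRingHom ≤ ⊥ := by
      rw [Ideal.map_pow, ← hN']
      exact Ideal.pow_right_mono (((local_hom_TFAE u.toRingHom).out 0 2).mp ‹IsLocalHom u.toRingHom›) N'
    exact Ideal.mem_bot.mp (this (Ideal.mem_map_of_mem u.toRingHom hx))
  obtain ⟨v, hv⟩ := h C J hJ ⟨N, h1⟩ u ⟨N', h2⟩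
  refine ⟨v, ⟨fun x hx => ?_⟩, hv⟩
  refine isUnit_of_map_unit u.toRingHom x ?_
  have := hx.map (Ideal.Quotient.mk J)
  rwa [show u.toRingHom x = Ideal.Quotient.mk J (v x) from (AlgHom.congr_fun hv x).symm]

end Groth.Agent.AdicSmooth3
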