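import Groth.Agent.Lib.AdicSmooth.Basic
import Mathlib.RingTheory.AdicCompletion.RingHom
import Mathlib.RingTheory.Ideal.Quotient.Operations

/-!
Lifting to adically complete algebras.
-/

set_option autoImplicit false
set_option linter.style.haveILetI false

universe u

namespace Groth.Agent.AdicSmooth3

variable {A B C : Type u} [CommRing A] [CommRing B] [CommRing C] [Algebra A B] [Algebra A C]

theorem exists_pair (P Q : Ideal C) (v : B →ₐ[A] C ⧸ P) (u : B →ₐ[A] C ⧸ Q)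
    (h : ∀ b, Ideal.Quotient.factor (le_sup_left : P ≤ P ⊔ Q) (v b) =
      Ideal.Quotient.factor (le_sup_right : Q ≤ P ⊔ Q) (u b)) :
    ∃ w : B →ₐ[A] C ⧸ (P ⊓ Q), (Ideal.Quotient.factorₐ A inf_le_left).comp w = v ∧
      (Ideal.Quotient.factorₐ A inf_le_right).comp w = u := by
  let φ : C ⧸ (P ⊓ Q) →ₐ[A] (C ⧸ P) × (C ⧸ Q) :=
    (Ideal.Quotient.factorₐ A inf_le_left).prod (Ideal.Quotient.factorₐ A inf_le_right)
  have hφ : Function.Injective φ := by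
    rw [injective_iff_map_eq_zero]
    intro x hx
    obtain ⟨c, rfl⟩ := Ideal.Quotient.mk_surjective x
    exact Ideal.Quotient.eq_zero_iff_mem.mpr
      ⟨Ideal.Quotient.eq_zero_iff_mem.mp (congrArg Prod.fst hx), Ideal.Quotient.eq_zero_iff_mem.mp (congrArg Prod.snd hx)⟩
  have hrange : ∀ b, (v.prod u) b ∈ φ.range := fun b => by
    obtain ⟨x, hx⟩ := Ideal.Quotient.mk_surjective (v b)
    obtain ⟨y, hy⟩ := Ideal.Quotient.mk_surjective (u b)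
    have h' := h b
    rw [← hx, ← hy, Ideal.Quotient.factor_mk, Ideal.Quotient.factor_mk, Ideal.Quotient.eq, Submodule.mem_sup] at h'
    obtain ⟨p, hp, q, hq, e⟩ := h'
    refine ⟨Ideal.Quotient.mk _ (x - p), Prod.ext ?_ ?_⟩
    · show Ideal.Quotient.mk P (x - p) = v b
      rw [← hx, Ideal.Quotient.eq, sub_sub_cancel_left]
      exact neg_mem hp
    · show Ideal.Quotient.mk Q (x - p) = u b
      rw [← hy, Ideal.Quotient.eq, show x - p - y = q by linear_combination -e]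
      exact hq
  refine ⟨((AlgEquiv.ofInjective φ hφ).symm.toAlgHom).comp ((v.prod u).codRestrict φ.range hrange), ?_, ?_⟩
  all_goals
    refine AlgHom.ext fun b => ?_
    have e : φ ((AlgEquiv.ofInjective φ hφ).symm ⟨(v.prod u) b, hrange b⟩) = (v.prod u) b :=
      congrArg Subtype.val ((AlgEquiv.ofInjective φ hφ).apply_symm_apply _)
  · exact congrArg Prod.fst e
  · exact congrArg Prod.snd e

variable (𝔞 : Ideal A) (𝔟 : Ideal B) (𝔠 : Ideal C)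

/-- A compatible map to the `n`-th quotient. -/
def Stage (J : Ideal C) (u : B →ₐ[A] C ⧸ J) (n : ℕ) : Type u :=
  {v : B →ₐ[A] C ⧸ 𝔠 ^ n // (∃ k, ∀ x ∈ 𝔟 ^ k, v x = 0) ∧
    ∀ b, Ideal.Quotient.factor (le_sup_left : 𝔠 ^ n ≤ 𝔠 ^ n ⊔ J) (v b) =
      Ideal.Quotient.factor (le_sup_right : J ≤ 𝔠 ^ n ⊔ J) (u b)}

theorem exists_step (hB : EGA41.IsFormallySmoothAdic A 𝔞 B 𝔟)
    (hAC : ∃ k : ℕ, (𝔞 ^ k).map (algebraMap A C) ≤ 𝔠) (J : Ideal C) (hJ : ∃ t : ℕ, J ^ t ≤ 𝔠)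
    (u : B →ₐ[A] C ⧸ J) (hu : ∃ k : ℕ, (𝔟 ^ k).map u.toRingHom ≤ 𝔠.map (Ideal.Quotient.mk J))
    (n : ℕ) (v : Stage 𝔟 𝔠 J u n) :
    ∃ w : Stage 𝔟 𝔠 J u (n + 1),
      (Ideal.Quotient.factorₐ A (Ideal.pow_le_pow_right n.le_succ)).comp w.1 = v.1 := by
  obtain ⟨v, ⟨k₁, hk₁⟩, hv⟩ := v
  let Q : Ideal C := 𝔠 ^ (n + 1) ⊔ J
  have hsup : 𝔠 ^ n ⊔ Q = 𝔠 ^ n ⊔ J := by
    rw [← sup_assoc, sup_eq_left.mpr (Ideal.pow_le_pow_right n.le_succ : 𝔠 ^ (n + 1) ≤ 𝔠 ^ n)]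
  let u' : B →ₐ[A] C ⧸ Q := (Ideal.Quotient.factorₐ A le_sup_right).comp u
  obtain ⟨w₀, hw₁, hw₂⟩ := exists_pair (𝔠 ^ n) Q v u' fun b => by
    obtain ⟨x, hx⟩ := Ideal.Quotient.mk_surjective (v b)
    obtain ⟨y, hy⟩ := Ideal.Quotient.mk_surjective (u b)
    have h' := hv b
    rw [← hx, ← hy, Ideal.Quotient.factor_mk, Ideal.Quotient.factor_mk, Ideal.Quotient.eq] at h'
    show Ideal.Quotient.factor (le_sup_left : 𝔠 ^ n ≤ 𝔠 ^ n ⊔ Q) (v b) = Ideal.Quotient.factor (le_sup_right : Q ≤ 𝔠 ^ n ⊔ Q) (Ideal.Quotient.factor (le_sup_right : J ≤ Q) (u b))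
    rw [← hx, ← hy, Ideal.Quotient.factor_mk, Ideal.Quotient.factor_mk, Ideal.Quotient.factor_mk, Ideal.Quotient.eq, hsup]
    exact h'
  let K : Ideal (C ⧸ 𝔠 ^ (n + 1)) := (𝔠 ^ n ⊓ Q).map (Ideal.Quotient.mk _)
  have hle : 𝔠 ^ (n + 1) ≤ 𝔠 ^ n ⊓ Q := le_inf (Ideal.pow_le_pow_right n.le_succ) le_sup_left
  have hK : IsNilpotent K := by
    obtain ⟨t, ht⟩ := hJ
    cases n with
    | zero =>
      refine ⟨t + 1, ?_⟩
      rw [← Ideal.map_pow, Ideal.zero_eq_bot, Ideal.map_eq_bot_iff_le_ker, Ideal.mk_ker, zero_add, pow_one]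
      refine (Ideal.pow_right_mono (inf_le_right) (t + 1)).trans ?_
      show (𝔠 ^ 1 ⊔ J) ^ (t + 1) ≤ 𝔠
      rw [pow_one, add_comm]
      exact Ideal.sup_pow_add_le_pow_sup_pow.trans (sup_le (pow_one 𝔠).le ht)
    | succ m =>
      refine ⟨2, ?_⟩
      rw [← Ideal.map_pow, Ideal.zero_eq_bot, Ideal.map_eq_bot_iff_le_ker, Ideal.mk_ker]
      refine (Ideal.pow_right_mono inf_le_left 2).trans ?_
      rw [← pow_mul]
      exact Ideal.pow_le_pow_right (by omega)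
  let e : ((C ⧸ 𝔠 ^ (n + 1)) ⧸ K) ≃ₐ[A] C ⧸ (𝔠 ^ n ⊓ Q) := DoubleQuot.quotQuotEquivQuotOfLEₐ A hle
  obtain ⟨k, hk⟩ := hu
  have hw : ∃ k, ∀ x ∈ 𝔟 ^ k, w₀ x = 0 := by
    refine ⟨max k₁ (k * (n + 1)), fun x hx => ?_⟩
    have h1 : v x = 0 := hk₁ x (Ideal.pow_le_pow_right (le_max_left _ _) hx)
    have h2 : u' x = 0 := by
      have hx' : u x ∈ (𝔠 ^ (n + 1)).map (Ideal.Quotient.mk J) := by
        rw [Ideal.map_pow]
        refine Ideal.pow_right_mono hk (n + 1) ?_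
        rw [← Ideal.map_pow, ← pow_mul]
        exact Ideal.mem_map_of_mem u.toRingHom (Ideal.pow_le_pow_right (le_max_right _ _) hx)
      obtain ⟨c, hc, hcx⟩ := (Ideal.mem_map_iff_of_surjective _ Ideal.Quotient.mk_surjective).mp hx'
      show Ideal.Quotient.factor (le_sup_right : J ≤ Q) (u x) = 0
      rw [← hcx, Ideal.Quotient.factor_mk, Ideal.Quotient.eq_zero_iff_mem]
      exact Ideal.mem_sup_left hc
    have e1 := (AlgHom.congr_fun hw₁ x).trans h1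
    have e2 := (AlgHom.congr_fun hw₂ x).trans h2
    obtain ⟨z, hz⟩ := Ideal.Quotient.mk_surjective (w₀ x)
    rw [AlgHom.comp_apply, ← hz] at e1 e2
    rw [← hz]
    exact Ideal.Quotient.eq_zero_iff_mem.mpr ⟨Ideal.Quotient.eq_zero_iff_mem.mp e1, Ideal.Quotient.eq_zero_iff_mem.mp e2⟩
  obtain ⟨k₂, hk₂⟩ := hw
  obtain ⟨a, ha⟩ := hAC
  have hA : ∃ j : ℕ, (𝔞 ^ j).map (algebraMap A (C ⧸ 𝔠 ^ (n + 1))) = ⊥ := by
    refine ⟨a * (n + 1), ?_⟩
    rw [IsScalarTower.algebraMap_eq A C (C ⧸ 𝔠 ^ (n + 1)), ← Ideal.map_map, Ideal.map_eq_bot_iff_le_ker,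
      pow_mul, Ideal.map_pow, Ideal.Quotient.algebraMap_eq, Ideal.mk_ker]
    exact Ideal.pow_right_mono ha _
  have hu₂ : ∃ j : ℕ, ∀ x ∈ 𝔟 ^ j, e.symm.toAlgHom.comp w₀ x = 0 := ⟨k₂, fun x hx => by simp [hk₂ x hx]⟩
  obtain ⟨w, hw⟩ := hB _ K hK hA (e.symm.toAlgHom.comp w₀) hu₂
  have hproj : ∀ b, Ideal.Quotient.factor hle (w b) = w₀ b := fun b => by
    have h1 : e (Ideal.Quotient.mk K (w b)) = e (e.symm (w₀ b)) := congrArg e (AlgHom.congr_fun hw b)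
    rw [AlgEquiv.apply_symm_apply] at h1
    rw [← h1]
    obtain ⟨c, hc⟩ := Ideal.Quotient.mk_surjective (w b)
    rw [← hc]
    rfl
  refine ⟨⟨w, AdicSmooth.continuous_lift 𝔟 K hK _ hu₂ w hw, fun b => ?_⟩, AlgHom.ext fun b => ?_⟩
  · obtain ⟨c, hc⟩ := Ideal.Quotient.mk_surjective (w b)
    obtain ⟨y, hy⟩ := Ideal.Quotient.mk_surjective (u b)
    have h1 : Ideal.Quotient.factor (inf_le_right : 𝔠 ^ n ⊓ Q ≤ Q) (w₀ b) = u' b := AlgHom.congr_fun hw₂ b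
    rw [← hproj, ← hc] at h1
    show Ideal.Quotient.factor (le_sup_left : 𝔠 ^ (n + 1) ≤ 𝔠 ^ (n + 1) ⊔ J) (w b) = Ideal.Quotient.factor (le_sup_right : J ≤ 𝔠 ^ (n + 1) ⊔ J) (u b)
    rw [← hc, ← hy]
    rw [show u' b = Ideal.Quotient.factor (le_sup_right : J ≤ Q) (u b) from rfl, ← hy] at h1
    exact h1
  · have h1 : Ideal.Quotient.factor (inf_le_left : 𝔠 ^ n ⊓ Q ≤ 𝔠 ^ n) (w₀ b) = v b := AlgHom.congr_fun hw₁ b
    rw [← hproj] at h1
    obtain ⟨c, hc⟩ := Ideal.Quotient.mk_surjective (w b)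
    show Ideal.Quotient.factor (Ideal.pow_le_pow_right n.le_succ) (w b) = v b
    rw [← hc] at h1 ⊢
    exact h1

theorem exists_lift [IsAdicComplete 𝔠 C] (hB : EGA41.IsFormallySmoothAdic A 𝔞 B 𝔟)
    (hAC : ∃ k : ℕ, (𝔞 ^ k).map (algebraMap A C) ≤ 𝔠) (J : Ideal C) (hJ : ∃ t : ℕ, J ^ t ≤ 𝔠)
    [IsHausdorff (𝔠.map (Ideal.Quotient.mk J)) (C ⧸ J)]
    (u : B →ₐ[A] C ⧸ J) (hu : ∃ k : ℕ, (𝔟 ^ k).map u.toRingHom ≤ 𝔠.map (Ideal.Quotient.mk J)) :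
    ∃ v : B →ₐ[A] C, (∃ k : ℕ, (𝔟 ^ k).map v.toRingHom ≤ 𝔠) ∧ (Ideal.Quotient.mkₐ A J).comp v = u := by
  haveI : Subsingleton (C ⧸ 𝔠 ^ 0) := Ideal.Quotient.subsingleton_iff.mpr (by rw [pow_zero, Ideal.one_eq_top])
  let v₀ : B →ₐ[A] C ⧸ 𝔠 ^ 0 :=
    { toFun := fun _ => 0, map_one' := Subsingleton.elim _ _, map_mul' := fun _ _ => Subsingleton.elim _ _,
      map_zero' := rfl, map_add' := fun _ _ => Subsingleton.elim _ _, commutes' := fun _ => Subsingleton.elim _ _ }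
  let s₀ : Stage 𝔟 𝔠 J u 0 := ⟨v₀, ⟨0, fun x _ => rfl⟩, fun b => by
    haveI : Subsingleton (C ⧸ (𝔠 ^ 0 ⊔ J)) := Ideal.Quotient.subsingleton_iff.mpr (by rw [pow_zero, Ideal.one_eq_top, top_sup_eq])
    exact Subsingleton.elim _ _⟩
  choose step hstep using exists_step 𝔞 𝔟 𝔠 hB hAC J hJ u hu
  let s : ∀ n, Stage 𝔟 𝔠 J u n := fun n => Nat.rec s₀ step n
  have hf : ∀ {m n : ℕ} (hle : m ≤ n),
      (Ideal.Quotient.factorₐ A (Ideal.pow_le_pow_right hle)).comp (s n).1 = (s m).1 := by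
    intro m n hle
    induction n, hle using Nat.le_induction with
    | base =>
      refine AlgHom.ext fun b => ?_
      obtain ⟨c, hc⟩ := Ideal.Quotient.mk_surjective ((s m).1 b)
      show Ideal.Quotient.factor (Ideal.pow_le_pow_right (le_refl m)) ((s m).1 b) = _
      rw [← hc]
      rfl
    | succ n hmn ih =>
      refine AlgHom.ext fun b => ?_
      rw [← ih]
      show Ideal.Quotient.factor (Ideal.pow_le_pow_right (hmn.trans n.le_succ)) ((s (n + 1)).1 b) = Ideal.Quotient.factor (Ideal.pow_le_pow_right hmn) ((s n).1 b)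
      rw [← show Ideal.Quotient.factor (Ideal.pow_le_pow_right n.le_succ) ((s (n + 1)).1 b) = (s n).1 b from AlgHom.congr_fun (hstep n (s n)) b]
      obtain ⟨c, hc⟩ := Ideal.Quotient.mk_surjective ((s (n + 1)).1 b)
      rw [← hc]
      rfl
  let v := IsAdicComplete.liftAlgHom 𝔠 (fun n => (s n).1) hf
  have hv : ∀ n b, Ideal.Quotient.mk (𝔠 ^ n) (v b) = (s n).1 b := fun n b =>
    IsAdicComplete.mk_liftAlgHom 𝔠 _ hf n b
  refine ⟨v, ?_, AlgHom.ext fun b => ?_⟩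
  · obtain ⟨k, hk⟩ := (s 1).2.1
    refine ⟨k, Ideal.map_le_iff_le_comap.mpr fun x hx => ?_⟩
    have := (hv 1 x).trans (hk x hx)
    rw [Ideal.Quotient.eq_zero_iff_mem, pow_one] at this
    exact this
  · refine sub_eq_zero.mp (IsHausdorff.haus (inferInstance : IsHausdorff (𝔠.map (Ideal.Quotient.mk J)) (C ⧸ J)) _ fun n => ?_)
    rw [SModEq.zero, smul_eq_mul, Ideal.mul_top, ← Ideal.map_pow]
    obtain ⟨y, hy⟩ := Ideal.Quotient.mk_surjective (u b)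
    have h1 := (s n).2.2 b
    rw [← hv n b, ← hy, Ideal.Quotient.factor_mk, Ideal.Quotient.factor_mk, Ideal.Quotient.eq, Submodule.mem_sup] at h1
    obtain ⟨c, hc, j, hj, e⟩ := h1
    show Ideal.Quotient.mk J (v b) - u b ∈ _
    rw [← hy, ← map_sub, ← e, map_add, Ideal.Quotient.eq_zero_iff_mem.mpr hj, add_zero]
    exact Ideal.mem_map_of_mem _ hc

end Groth.Agent.AdicSmooth3
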